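import Cfsg.Agent.Lib.H28.Fi22M.Cert.StepsA
import Cfsg.Agent.Lib.H28.Fi22M.Cert.StepsB
import Cfsg.Agent.Lib.H28.Fi22M.Cert.StepsC
import Cfsg.Agent.Lib.H28.Fi22M.Cert.StepsD
import Cfsg.Agent.Lib.H28.Fi22M.Cert.StepsE
import Cfsg.Agent.Lib.H28.Fi22M.Cert.StepsF
import Cfsg.Agent.Lib.H28.Fi22M.Cert.StepsG
import Cfsg.Agent.Lib.H28.Fi22M.Cert.StepsH
import Cfsg.Agent.Lib.H28.Fi22M.Cert.StepsI
import Cfsg.Agent.Lib.H28.Fi22M.Cert.StepsJ
import Cfsg.Agent.Lib.H28.Fi22M.Cert.StepsK
import Cfsg.Agent.Lib.H28.Fi22M.Cert.Rows

set_option autoImplicit false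
set_option maxRecDepth 100000

/-! # Running the monomial certificate (generated) -/

namespace Cfsg.Agent.Lib.H28.Fi22M.Cert

open Cfsg.Agent.Lib.H17.CosetCert (BT WT)
open Cfsg.Agent.Lib.H17.MonoCert

variable {G Q A : Type*} [Group G] [MulAction G Q] [Group A] [MulAction A Q]
  [SMulCommClass G A Q] (tw : List ℤ → A) (γ : ℕ → G)

theorem run (hfree : ∀ (α β : A) (q : Q), α • q = β • q → α = β)
    (htw : TwOK ladd (List.replicate 1 0) leq tw) (q0 : Q) (hw : WordsOK Ev tw γ q0 words 57) :
    Inv F Ev tw γ q0 words 126720 14080 58 := by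
  have h0 := inv_zero F Ev tw γ q0 words 57 hw
  have h1 := checkSteps_sound ladd (List.replicate 1 0) leq F Ev 9 131072 tw γ hfree htw q0 words 57 hw steps0 0 1 57 1500 184 57 h0 chk0
  have h2 := checkSteps_sound ladd (List.replicate 1 0) leq F Ev 9 131072 tw γ hfree htw q0 words 57 hw steps1 1500 184 57 3000 369 57 h1 chk1
  have h3 := checkSteps_sound ladd (List.replicate 1 0) leq F Ev 9 131072 tw γ hfree htw q0 words 57 hw steps2 3000 369 57 4500 561 57 h2 chk2
  have h4 := checkSteps_sound ladd (List.replicate 1 0) leq F Ev 9 131072 tw γ hfree htw q0 words 57 hw steps3 4500 561 57 6000 748 57 h3 chk3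
  have h5 := checkSteps_sound ladd (List.replicate 1 0) leq F Ev 9 131072 tw γ hfree htw q0 words 57 hw steps4 6000 748 57 7500 944 57 h4 chk4
  have h6 := checkSteps_sound ladd (List.replicate 1 0) leq F Ev 9 131072 tw γ hfree htw q0 words 57 hw steps5 7500 944 57 9000 1137 57 h5 chk5
  have h7 := checkSteps_sound ladd (List.replicate 1 0) leq F Ev 9 131072 tw γ hfree htw q0 words 57 hw steps6 9000 1137 57 10500 1326 57 h6 chk6
  have h8 := checkSteps_sound ladd (List.replicate 1 0) leq F Ev 9 131072 tw γ hfree htw q0 words 57 hw steps7 10500 1326 57 12000 1459 57 h7 chk7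
  have h9 := checkSteps_sound ladd (List.replicate 1 0) leq F Ev 9 131072 tw γ hfree htw q0 words 57 hw steps8 12000 1459 57 13500 1636 57 h8 chk8
  have h10 := checkSteps_sound ladd (List.replicate 1 0) leq F Ev 9 131072 tw γ hfree htw q0 words 57 hw steps9 13500 1636 57 15000 1819 57 h9 chk9
  have h11 := checkSteps_sound ladd (List.replicate 1 0) leq F Ev 9 131072 tw γ hfree htw q0 words 57 hw steps10 15000 1819 57 16500 1995 57 h10 chk10
  have h12 := checkSteps_sound ladd (List.replicate 1 0) leq F Ev 9 131072 tw γ hfree htw q0 words 57 hw steps11 16500 1995 57 18000 2172 57 h11 chk11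
  have h13 := checkSteps_sound ladd (List.replicate 1 0) leq F Ev 9 131072 tw γ hfree htw q0 words 57 hw steps12 18000 2172 57 19500 2350 57 h12 chk12
  have h14 := checkSteps_sound ladd (List.replicate 1 0) leq F Ev 9 131072 tw γ hfree htw q0 words 57 hw steps13 19500 2350 57 21000 2526 57 h13 chk13
  have h15 := checkSteps_sound ladd (List.replicate 1 0) leq F Ev 9 131072 tw γ hfree htw q0 words 57 hw steps14 21000 2526 57 22500 2725 57 h14 chk14
  have h16 := checkSteps_sound ladd (List.replicate 1 0) leq F Ev 9 131072 tw γ hfree htw q0 words 57 hw steps15 22500 2725 57 24000 2894 57 h15 chk15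
  have h17 := checkSteps_sound ladd (List.replicate 1 0) leq F Ev 9 131072 tw γ hfree htw q0 words 57 hw steps16 24000 2894 57 25500 3075 57 h16 chk16
  have h18 := checkSteps_sound ladd (List.replicate 1 0) leq F Ev 9 131072 tw γ hfree htw q0 words 57 hw steps17 25500 3075 57 27000 3263 57 h17 chk17
  have h19 := checkSteps_sound ladd (List.replicate 1 0) leq F Ev 9 131072 tw γ hfree htw q0 words 57 hw steps18 27000 3263 57 28500 3450 57 h18 chk18
  have h20 := checkSteps_sound ladd (List.replicate 1 0) leq F Ev 9 131072 tw γ hfree htw q0 words 57 hw steps19 28500 3450 57 30000 3613 57 h19 chk19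
  have h21 := checkSteps_sound ladd (List.replicate 1 0) leq F Ev 9 131072 tw γ hfree htw q0 words 57 hw steps20 30000 3613 57 31500 3792 57 h20 chk20
  have h22 := checkSteps_sound ladd (List.replicate 1 0) leq F Ev 9 131072 tw γ hfree htw q0 words 57 hw steps21 31500 3792 57 33000 3983 57 h21 chk21
  have h23 := checkSteps_sound ladd (List.replicate 1 0) leq F Ev 9 131072 tw γ hfree htw q0 words 57 hw steps22 33000 3983 57 34500 4169 57 h22 chk22
  have h24 := checkSteps_sound ladd (List.replicate 1 0) leq F Ev 9 131072 tw γ hfree htw q0 words 57 hw steps23 34500 4169 57 36000 4329 57 h23 chk23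
  have h25 := checkSteps_sound ladd (List.replicate 1 0) leq F Ev 9 131072 tw γ hfree htw q0 words 57 hw steps24 36000 4329 57 37500 4509 57 h24 chk24
  have h26 := checkSteps_sound ladd (List.replicate 1 0) leq F Ev 9 131072 tw γ hfree htw q0 words 57 hw steps25 37500 4509 57 39000 4680 57 h25 chk25
  have h27 := checkSteps_sound ladd (List.replicate 1 0) leq F Ev 9 131072 tw γ hfree htw q0 words 57 hw steps26 39000 4680 57 40500 4879 57 h26 chk26
  have h28 := checkSteps_sound ladd (List.replicate 1 0) leq F Ev 9 131072 tw γ hfree htw q0 words 57 hw steps27 40500 4879 57 42000 5051 57 h27 chk27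
  have h29 := checkSteps_sound ladd (List.replicate 1 0) leq F Ev 9 131072 tw γ hfree htw q0 words 57 hw steps28 42000 5051 57 43500 5210 57 h28 chk28
  have h30 := checkSteps_sound ladd (List.replicate 1 0) leq F Ev 9 131072 tw γ hfree htw q0 words 57 hw steps29 43500 5210 57 45000 5377 57 h29 chk29
  have h31 := checkSteps_sound ladd (List.replicate 1 0) leq F Ev 9 131072 tw γ hfree htw q0 words 57 hw steps30 45000 5377 57 46500 5561 57 h30 chk30
  have h32 := checkSteps_sound ladd (List.replicate 1 0) leq F Ev 9 131072 tw γ hfree htw q0 words 57 hw steps31 46500 5561 57 48000 5732 57 h31 chk31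
  have h33 := checkSteps_sound ladd (List.replicate 1 0) leq F Ev 9 131072 tw γ hfree htw q0 words 57 hw steps32 48000 5732 57 49500 5921 57 h32 chk32
  have h34 := checkSteps_sound ladd (List.replicate 1 0) leq F Ev 9 131072 tw γ hfree htw q0 words 57 hw steps33 49500 5921 57 51000 6079 57 h33 chk33
  have h35 := checkSteps_sound ladd (List.replicate 1 0) leq F Ev 9 131072 tw γ hfree htw q0 words 57 hw steps34 51000 6079 57 52500 6221 57 h34 chk34
  have h36 := checkSteps_sound ladd (List.replicate 1 0) leq F Ev 9 131072 tw γ hfree htw q0 words 57 hw steps35 52500 6221 57 54000 6388 57 h35 chk35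
  have h37 := checkSteps_sound ladd (List.replicate 1 0) leq F Ev 9 131072 tw γ hfree htw q0 words 57 hw steps36 54000 6388 57 55500 6565 57 h36 chk36
  have h38 := checkSteps_sound ladd (List.replicate 1 0) leq F Ev 9 131072 tw γ hfree htw q0 words 57 hw steps37 55500 6565 57 57000 6732 57 h37 chk37
  have h39 := checkSteps_sound ladd (List.replicate 1 0) leq F Ev 9 131072 tw γ hfree htw q0 words 57 hw steps38 57000 6732 57 58500 6912 57 h38 chk38
  have h40 := checkSteps_sound ladd (List.replicate 1 0) leq F Ev 9 131072 tw γ hfree htw q0 words 57 hw steps39 58500 6912 57 60000 7054 57 h39 chk39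
  have h41 := checkSteps_sound ladd (List.replicate 1 0) leq F Ev 9 131072 tw γ hfree htw q0 words 57 hw steps40 60000 7054 57 61500 7204 57 h40 chk40
  have h42 := checkSteps_sound ladd (List.replicate 1 0) leq F Ev 9 131072 tw γ hfree htw q0 words 57 hw steps41 61500 7204 57 63000 7364 57 h41 chk41
  have h43 := checkSteps_sound ladd (List.replicate 1 0) leq F Ev 9 131072 tw γ hfree htw q0 words 57 hw steps42 63000 7364 57 64500 7544 57 h42 chk42
  have h44 := checkSteps_sound ladd (List.replicate 1 0) leq F Ev 9 131072 tw γ hfree htw q0 words 57 hw steps43 64500 7544 57 66000 7704 57 h43 chk43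
  have h45 := checkSteps_sound ladd (List.replicate 1 0) leq F Ev 9 131072 tw γ hfree htw q0 words 57 hw steps44 66000 7704 57 67500 7883 57 h44 chk44
  have h46 := checkSteps_sound ladd (List.replicate 1 0) leq F Ev 9 131072 tw γ hfree htw q0 words 57 hw steps45 67500 7883 57 69000 8023 57 h45 chk45
  have h47 := checkSteps_sound ladd (List.replicate 1 0) leq F Ev 9 131072 tw γ hfree htw q0 words 57 hw steps46 69000 8023 57 70500 8167 57 h46 chk46
  have h48 := checkSteps_sound ladd (List.replicate 1 0) leq F Ev 9 131072 tw γ hfree htw q0 words 57 hw steps47 70500 8167 57 72000 8334 57 h47 chk47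
  have h49 := checkSteps_sound ladd (List.replicate 1 0) leq F Ev 9 131072 tw γ hfree htw q0 words 57 hw steps48 72000 8334 57 73500 8504 57 h48 chk48
  have h50 := checkSteps_sound ladd (List.replicate 1 0) leq F Ev 9 131072 tw γ hfree htw q0 words 57 hw steps49 73500 8504 57 75000 8684 57 h49 chk49
  have h51 := checkSteps_sound ladd (List.replicate 1 0) leq F Ev 9 131072 tw γ hfree htw q0 words 57 hw steps50 75000 8684 57 76500 8816 57 h50 chk50
  have h52 := checkSteps_sound ladd (List.replicate 1 0) leq F Ev 9 131072 tw γ hfree htw q0 words 57 hw steps51 76500 8816 57 78000 8962 57 h51 chk51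
  have h53 := checkSteps_sound ladd (List.replicate 1 0) leq F Ev 9 131072 tw γ hfree htw q0 words 57 hw steps52 78000 8962 57 79500 9123 57 h52 chk52
  have h54 := checkSteps_sound ladd (List.replicate 1 0) leq F Ev 9 131072 tw γ hfree htw q0 words 57 hw steps53 79500 9123 57 81000 9292 57 h53 chk53
  have h55 := checkSteps_sound ladd (List.replicate 1 0) leq F Ev 9 131072 tw γ hfree htw q0 words 57 hw steps54 81000 9292 57 82500 9469 57 h54 chk54
  have h56 := checkSteps_sound ladd (List.replicate 1 0) leq F Ev 9 131072 tw γ hfree htw q0 words 57 hw steps55 82500 9469 57 84000 9599 57 h55 chk55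
  have h57 := checkSteps_sound ladd (List.replicate 1 0) leq F Ev 9 131072 tw γ hfree htw q0 words 57 hw steps56 84000 9599 57 85500 9751 57 h56 chk56
  have h58 := checkSteps_sound ladd (List.replicate 1 0) leq F Ev 9 131072 tw γ hfree htw q0 words 57 hw steps57 85500 9751 57 87000 9921 57 h57 chk57
  have h59 := checkSteps_sound ladd (List.replicate 1 0) leq F Ev 9 131072 tw γ hfree htw q0 words 57 hw steps58 87000 9921 57 88500 10090 57 h58 chk58
  have h60 := checkSteps_sound ladd (List.replicate 1 0) leq F Ev 9 131072 tw γ hfree htw q0 words 57 hw steps59 88500 10090 57 90000 10232 57 h59 chk59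
  have h61 := checkSteps_sound ladd (List.replicate 1 0) leq F Ev 9 131072 tw γ hfree htw q0 words 57 hw steps60 90000 10232 57 91500 10390 57 h60 chk60
  have h62 := checkSteps_sound ladd (List.replicate 1 0) leq F Ev 9 131072 tw γ hfree htw q0 words 57 hw steps61 91500 10390 57 93000 10565 57 h61 chk61
  have h63 := checkSteps_sound ladd (List.replicate 1 0) leq F Ev 9 131072 tw γ hfree htw q0 words 57 hw steps62 93000 10565 57 94500 10741 57 h62 chk62
  have h64 := checkSteps_sound ladd (List.replicate 1 0) leq F Ev 9 131072 tw γ hfree htw q0 words 57 hw steps63 94500 10741 57 96000 10893 57 h63 chk63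
  have h65 := checkSteps_sound ladd (List.replicate 1 0) leq F Ev 9 131072 tw γ hfree htw q0 words 57 hw steps64 96000 10893 57 97500 11059 57 h64 chk64
  have h66 := checkSteps_sound ladd (List.replicate 1 0) leq F Ev 9 131072 tw γ hfree htw q0 words 57 hw steps65 97500 11059 57 99000 11248 57 h65 chk65
  have h67 := checkSteps_sound ladd (List.replicate 1 0) leq F Ev 9 131072 tw γ hfree htw q0 words 57 hw steps66 99000 11248 57 100500 11407 57 h66 chk66
  have h68 := checkSteps_sound ladd (List.replicate 1 0) leq F Ev 9 131072 tw γ hfree htw q0 words 57 hw steps67 100500 11407 57 102000 11570 57 h67 chk67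
  have h69 := checkSteps_sound ladd (List.replicate 1 0) leq F Ev 9 131072 tw γ hfree htw q0 words 57 hw steps68 102000 11570 57 103500 11744 57 h68 chk68
  have h70 := checkSteps_sound ladd (List.replicate 1 0) leq F Ev 9 131072 tw γ hfree htw q0 words 57 hw steps69 103500 11744 57 105000 11929 57 h69 chk69
  have h71 := checkSteps_sound ladd (List.replicate 1 0) leq F Ev 9 131072 tw γ hfree htw q0 words 57 hw steps70 105000 11929 57 106500 12065 57 h70 chk70
  have h72 := checkSteps_sound ladd (List.replicate 1 0) leq F Ev 9 131072 tw γ hfree htw q0 words 57 hw steps71 106500 12065 57 108000 12229 57 h71 chk71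
  have h73 := checkSteps_sound ladd (List.replicate 1 0) leq F Ev 9 131072 tw γ hfree htw q0 words 57 hw steps72 108000 12229 57 109500 12397 57 h72 chk72
  have h74 := checkSteps_sound ladd (List.replicate 1 0) leq F Ev 9 131072 tw γ hfree htw q0 words 57 hw steps73 109500 12397 57 111000 12555 57 h73 chk73
  have h75 := checkSteps_sound ladd (List.replicate 1 0) leq F Ev 9 131072 tw γ hfree htw q0 words 57 hw steps74 111000 12555 57 112500 12699 57 h74 chk74
  have h76 := checkSteps_sound ladd (List.replicate 1 0) leq F Ev 9 131072 tw γ hfree htw q0 words 57 hw steps75 112500 12699 57 114000 12854 57 h75 chk75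
  have h77 := checkSteps_sound ladd (List.replicate 1 0) leq F Ev 9 131072 tw γ hfree htw q0 words 57 hw steps76 114000 12854 57 115500 13018 57 h76 chk76
  have h78 := checkSteps_sound ladd (List.replicate 1 0) leq F Ev 9 131072 tw γ hfree htw q0 words 57 hw steps77 115500 13018 57 117000 13143 57 h77 chk77
  have h79 := checkSteps_sound ladd (List.replicate 1 0) leq F Ev 9 131072 tw γ hfree htw q0 words 57 hw steps78 117000 13143 57 118500 13293 57 h78 chk78
  have h80 := checkSteps_sound ladd (List.replicate 1 0) leq F Ev 9 131072 tw γ hfree htw q0 words 57 hw steps79 118500 13293 57 120000 13445 57 h79 chk79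
  have h81 := checkSteps_sound ladd (List.replicate 1 0) leq F Ev 9 131072 tw γ hfree htw q0 words 57 hw steps80 120000 13445 57 121500 13595 57 h80 chk80
  have h82 := checkSteps_sound ladd (List.replicate 1 0) leq F Ev 9 131072 tw γ hfree htw q0 words 57 hw steps81 121500 13595 57 123000 13742 57 h81 chk81
  have h83 := checkSteps_sound ladd (List.replicate 1 0) leq F Ev 9 131072 tw γ hfree htw q0 words 57 hw steps82 123000 13742 57 124500 13888 57 h82 chk82
  have h84 := checkSteps_sound ladd (List.replicate 1 0) leq F Ev 9 131072 tw γ hfree htw q0 words 57 hw steps83 124500 13888 57 126000 14023 57 h83 chk83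
  have h85 := checkSteps_sound ladd (List.replicate 1 0) leq F Ev 9 131072 tw γ hfree htw q0 words 57 hw steps84 126000 14023 57 126720 14080 58 h84 chk84
  exact h85

end Cfsg.Agent.Lib.H28.Fi22M.Cert
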